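import Cfsg.Agent.BZ.C4.J2
import Cfsg.Agent.TAB.Co1.Tab
import Cfsg.Agent.H843.IMC.Co1B
import Cfsg.Agent.H829.GowDesc
import Cfsg.Agent.H164.M23.Theta
import Cfsg.Agent.KFacts.MulCo.CoZero
import Cfsg.Agent.S2043

/-!
# BZ-C4 : the double cover of the first Conway group, the prime 5 (helper36)

* `Tb T` : the table of `Co1`; `Lee T σ ψ` : the character of degree 24 of a double cover;
* `Lee.tw` : the product of `ψ` with a virtual character of `Co1` is irreducible if its norm is one;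
* the faithful character of degree `24 * (376740 - 80730)` lies in the `5`-block of maximal defect.
-/

set_option autoImplicit false
set_option linter.unusedSectionVars false

namespace Cfsg.Agent.BZ.C4

open Cfsg Subgroup Cfsg.Agent.BZ.T Cfsg.Agent.TAB.Eng Cfsg.Agent.TAB.Use Cfsg.Agent.TAB.Co1
open Cfsg.Agent.Characters.Core Cfsg.Agent.Characters.Brauer
open Cfsg.Agent.H419.Spor.Co1 (chi psi chi_one chi_neg)
open Cfsg.Agent.H843.IMC.Co1B (irr_chi chi_real exists_276 exists_299 om)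
open Cfsg.Agent.CoOneType.CoOneE (pr pr_surjective)
open scoped ComplexConjugate

/-- the table -/
structure Tb (T : TD Spor.Co1 D) : Prop where
  mass : T.Mass
  rat : TAB.ON.Rat T
  virt : ∀ r ∈ TAB.Co1.RA ++ RB, Virt T (nth r)
  tab : Tab T RR

theorem exists_tb : ∃ T : TD Spor.Co1 D, Tb T := by
  obtain ⟨T, h1, h2, h3, -, h4⟩ := TAB.Co1.tab
  exact ⟨T, h1, h2, h3, h4⟩

theorem co1_card : Nat.card Spor.Co1 = 4157776806543360000 := NotCT.Orders.co1 ⟨MulEquiv.refl _⟩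

theorem co1_fin : Finite Spor.Co1 := H419.Spor.Co1.finite_co1

theorem ty_of_ord_one : ∀ i < D.n, D.ord i = 1 → i = 0 := by decide +kernel

theorem ty_one (T : TD Spor.Co1 D) : T.ty 1 = 0 := ty_of_ord_one _ (T.lt 1) ((T.ord 1).symm.trans orderOf_one)

theorem uniq_deg : ∀ j < 101, (degs.getD j 0 = 276 → j = 1) ∧ (degs.getD j 0 = 299 → j = 2) := by decide +kernel

variable {T : TD Spor.Co1 D}

theorem Tb.row (h : Tb T) {θ : Spor.Co1 → ℂ} (hθ : IsIrrCharacter Spor.Co1 θ) :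
    (charDegree θ = 276 → ∀ g, θ g = nth r1 (T.ty g)) ∧ (charDegree θ = 299 → ∀ g, θ g = nth r2 (T.ty g)) := by
  have := co1_fin
  obtain ⟨χ, hE, hR⟩ := h.tab
  obtain ⟨j, hj, rfl⟩ := hE.all θ hθ
  have h1 := hE.deg j hj
  rw [Blocks.Basic.irr_one_eq_charDegree hθ, Rows.d, RR_deg] at h1
  have h2 : charDegree (χ j) = degs.getD j 0 := by exact_mod_cast h1
  have h3 : j < 101 := by rwa [Rows.n, RR_deg] at hj
  have hrel : ∀ i < 97, ([(i, 1)], TAB.Sm2.rw' TAB.Co1.RA RB i) ∈ RR.rel := fun i hi =>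
    List.mem_append_left _ (List.mem_map.2 ⟨i, List.mem_range.2 hi, rfl⟩)
  refine ⟨fun hd g => ?_, fun hd g => ?_⟩
  · obtain rfl := (uniq_deg j h3).1 (h2 ▸ hd)
    have h4 := hR _ (hrel 1 (by norm_num)) g
    rw [show TAB.Sm2.rw' TAB.Co1.RA RB 1 = r1 from rfl] at h4
    rw [nth_eq]
    simpa using h4
  · obtain rfl := (uniq_deg j h3).2 (h2 ▸ hd)
    have h4 := hR _ (hrel 2 (by norm_num)) g
    rw [show TAB.Sm2.rw' TAB.Co1.RA RB 2 = r2 from rfl] at h4
    rw [nth_eq]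
    simpa using h4

/-- the character of degree 24 -/
structure Lee (T : TD Spor.Co1 D) {K : Type} [Group K] (σ : K →* Spor.Co1) (ψ : K → ℂ) : Prop where
  irr : IsIrrCharacter K ψ
  one : ψ 1 = 24
  real : ∀ g, conj (ψ g) = ψ g
  neg : ∀ z, σ z = 1 → z ≠ 1 → ψ z = -24
  sq : ∀ g, ψ g ^ 2 = ((1 + nth r1 (T.ty (σ g)) + nth r2 (T.ty (σ g)) : ℤ) : ℂ)
  dbl : ∀ g, ψ (g * g) = ((1 - nth r1 (T.ty (σ g)) + nth r2 (T.ty (σ g)) : ℤ) : ℂ)

theorem Tb.lee0 (h : Tb T) : Lee T pr chi := by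
  obtain ⟨θ, h1, h2⟩ := exists_276
  obtain ⟨ξ, h3, h4⟩ := exists_299
  have h5 := (h.row θ.2).1 h2
  have h6 := (h.row ξ.2).2 h3
  have h7 : ∀ g, (chi g ^ 2 - chi (g * g)) / 2 = nth r1 (T.ty (pr g)) := fun g => by rw [← h5, h1]; rfl
  have h8 : ∀ g, (chi g ^ 2 + chi (g * g)) / 2 = 1 + nth r2 (T.ty (pr g)) := fun g => by rw [← h6, ← h4]; rfl
  refine ⟨irr_chi, chi_one, chi_real, fun z hz h0 => ?_, fun g => ?_, fun g => ?_⟩
  · rcases (CoOneType.CoOneE.mem_center_iff z).1 ((QuotientGroup.eq_one_iff z).1 hz) with rfl | rfl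
    · exact absurd rfl h0
    · exact chi_neg
  · push_cast
    linear_combination h7 g + h8 g
  · push_cast
    linear_combination h8 g - h7 g

variable {K : Type} [Group K] [Finite K] {σ : K →* Spor.Co1} {ψ : K → ℂ}

theorem exists_co0 (hp : commutator K = ⊤) (hs : Function.Surjective σ) (hk : σ.ker = center K)
    (hc : Nat.card (center K) = 2) : ∃ φ : Co0 ≃* K, ∀ x, σ (φ x) = pr x := by
  have := co1_fin
  have := H419.Spor.Co1.finite_co0
  have hst : IsStemExtension σ := ⟨hs, hk.le, by rw [hp]; exact le_top⟩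
  have hk0 : pr.ker = center Co0 := QuotientGroup.ker_mk' _
  have h0 : IsStemExtension pr := ⟨pr_surjective, hk0.le, by rw [KFacts.MulCo.CoZero.commutator_co0]; exact le_top⟩
  obtain ⟨φ, h1, h2⟩ := H264.CoverOver.exists_cover KFacts.MulCo.CoZero.commutator_co1 (A := Multiplicative (ZMod 2))
    S2043.result pr h0 (by
      rw [hk0, SporadicA.Co0Basic.card_center, Nat.card_congr (Multiplicative.toAdd (α := ZMod 2)), Nat.card_zmod]) σ hst
  have hcN : Nat.card Co0 = Nat.card K := by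
    rw [H264.CoverOver.card_eq_of_surj hs, H264.CoverOver.card_eq_of_surj pr_surjective, hk, hk0, hc,
      SporadicA.Co0Basic.card_center]
  exact ⟨MulEquiv.ofBijective φ ((Nat.bijective_iff_surjective_and_card φ).2 ⟨h1, hcN⟩), h2⟩

theorem Tb.lee (h : Tb T) (hp : commutator K = ⊤) (hs : Function.Surjective σ) (hk : σ.ker = center K)
    (hc : Nat.card (center K) = 2) : ∃ ψ : K → ℂ, Lee T σ ψ := by
  obtain ⟨φ, hφ⟩ := exists_co0 hp hs hk hc
  have := H419.Spor.Co1.finite_co0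
  have h1 : ∀ g, pr (φ.symm g) = σ g := fun g => by rw [← hφ, φ.apply_symm_apply]
  have L := h.lee0
  refine ⟨chi ∘ φ.symm.toMonoidHom, isIrr_comp φ.symm.toMonoidHom φ.symm.surjective L.irr, ?_, fun g => L.real _,
    fun z hz h0 => L.neg _ ((h1 z).trans hz) fun e => h0 (φ.symm.injective (e.trans (map_one _).symm)),
    fun g => ?_, fun g => ?_⟩
  · rw [Function.comp_apply, map_one, L.one]
  · rw [← h1]
    exact L.sq _
  · rw [← h1, Function.comp_apply, map_mul]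
    exact L.dbl _

/-- the norm of the product -/
noncomputable def nrm (v : ℕ → ℤ) : ℤ :=
  ((List.range D.n).map fun t => (D.cnt t : ℤ) * ((1 + nth r1 t + nth r2 t) * v t ^ 2)).sum

/-- **the products of norm one** -/
theorem Lee.tw (L : Lee T σ ψ) (hm : T.Mass) (hs : Function.Surjective σ) {v : ℕ → ℤ} (hv : Virt T v)
    (h1 : nrm v = D.N) {d : ℕ} (hd : v 0 = d) :
    ∃ χ : IrrCharacter K, charDegree (χ : K → ℂ) = 24 * d ∧ ∀ g, (χ : K → ℂ) g = ψ g * v (T.ty (σ g)) := by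
  classical
  have := co1_fin
  let _ := Fintype.ofFinite K
  let _ := Fintype.ofFinite Spor.Co1
  have h2 : IsGeneralizedCharacter K (ψ * fun g => (v (T.ty (σ g)) : ℂ)) :=
    isGeneralizedCharacter_mul (isGeneralizedCharacter_of_isCharacter (isIrr_isCharacter L.irr))
      (H651.isGeneralizedCharacter_comp_hom σ hv)
  have h3 : (ψ * fun g => (v (T.ty (σ g)) : ℂ)) 1 = ((24 * d : ℕ) : ℂ) := by
    rw [Pi.mul_apply, map_one, ty_one, L.one, hd]
    push_cast
    rfl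
  have h4 : classInner (ψ * fun g => (v (T.ty (σ g)) : ℂ)) (ψ * fun g => (v (T.ty (σ g)) : ℂ)) = 1 := by
    have h5 : ∀ g, (ψ * fun g => (v (T.ty (σ g)) : ℂ)) g * conj ((ψ * fun g => (v (T.ty (σ g)) : ℂ)) g) =
        (fun t => (((1 + nth r1 t + nth r2 t) * v t ^ 2 : ℤ) : ℂ)) (T.ty (σ g)) := fun g => by
      simp only [Pi.mul_apply, map_mul, L.real, map_intCast]
      rw [Int.cast_mul, ← L.sq]
      push_cast
      ring
    rw [classInner, Finset.sum_congr rfl fun g _ => h5 g,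
      H829.GowDesc.sum_comp_surj σ hs fun s => (fun t => (((1 + nth r1 t + nth r2 t) * v t ^ 2 : ℤ) : ℂ)) (T.ty s),
      sum_mass hm fun t => (((1 + nth r1 t + nth r2 t) * v t ^ 2 : ℤ) : ℂ), H264.CoverOver.card_eq_of_surj hs, hm.1]
    have h6 : ∑ t ∈ Finset.range D.n, D.cnt t • (((1 + nth r1 t + nth r2 t) * v t ^ 2 : ℤ) : ℂ) = ((nrm v : ℤ) : ℂ) := by
      rw [nrm, Int.cast_list_sum, List.map_map]
      refine Eq.trans (Finset.sum_congr rfl fun t _ => ?_) (by rfl)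
      rw [nsmul_eq_mul, Function.comp_apply, Int.cast_mul (D.cnt t : ℤ), Int.cast_natCast]
    have h7 : (Nat.card σ.ker : ℂ) ≠ 0 := Nat.cast_ne_zero.2 Nat.card_pos.ne'
    have h8 : (D.N : ℂ) ≠ 0 := Nat.cast_ne_zero.2 (hm.1 ▸ Nat.card_pos.ne')
    rw [h6, h1]
    push_cast
    field_simp
  have h9 := H164.M23.Theta.irr_of_gen h2 h4 h3
  refine ⟨⟨_, h9⟩, ?_, fun g => rfl⟩
  have h10 := Blocks.Basic.irr_one_eq_charDegree h9
  rw [h3] at h10
  exact_mod_cast h10.symm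

theorem Lee.faith (L : Lee T σ ψ) (hk : σ.ker = center K) {χ : IrrCharacter K} (v : ℕ → ℤ)
    (h : ∀ g, (χ : K → ℂ) g = ψ g * v (T.ty (σ g))) : ∀ z ∈ center K, (χ : K → ℂ) z = (χ : K → ℂ) 1 → z = 1 := by
  intro z hz h1
  by_contra h0
  have h2 : σ z = 1 := by rwa [← hk] at hz
  have h3 := isIrr_apply_one_ne_zero χ.2
  rw [h, h, h2, map_one, L.neg z h2 h0, L.one] at h1
  rw [h, map_one, L.one] at h3
  exact h3 (by linear_combination h1 / (-2))

theorem Tb.reg5 (h : Tb T) : Reg 5 3 Spor.Co1 := by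
  have := co1_fin
  exact reg_of_rat h.mass h.rat (by decide +kernel)

theorem mem_rows {r : List ℤ} (i : ℕ) (h : TAB.Co1.RA[i]? = some r) : r ∈ TAB.Co1.RA ++ RB :=
  List.mem_append_left _ (List.mem_of_getElem? h)

theorem nrm5 : nrm (fun t => nth r13 t + (-1) * nth r9 t) = D.N := by decide +kernel

/-- **`2.Co1`, `p = 5`** -/
theorem co1_2_5 : ∀ (S : Type) [Group S] [Finite S], Spor.IsoCo1 S → Cov XP 2 5 S := by
  rintro S _ _ ⟨e⟩
  have : Fact (Nat.Prime 5) := ⟨by norm_num⟩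
  refine Cov.of_equiv e fun K _ _ σ M B D H hc => ?_
  obtain ⟨T, hT⟩ := exists_tb
  obtain ⟨ψ, L⟩ := hT.lee H.qs.1.commutator_eq_top H.surj H.ker hc
  obtain ⟨χ, h1, h2⟩ := L.tw hT.mass H.surj ((hT.virt _ (mem_rows 13 rfl)).add ((hT.virt _ (mem_rows 9 rfl)).smul (-1)))
    nrm5 (d := 296010) (by decide +kernel)
  refine H.not_XP_crit (d := 3) hT.reg5 hT.reg5 χ (L.faith H.ker (fun t => nth r13 t + (-1) * nth r9 t) h2) (by rw [h1]; norm_num) ?_
  rw [h1, co1_card]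
  decide +kernel

end Cfsg.Agent.BZ.C4
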