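import Cfsg.Agent.BZ.C4.M12
import Cfsg.Agent.KM.Sp.Eng
import Cfsg.Agent.TAB.J2.Main
import Cfsg.Agent.H858.S8.J2Cover
import Cfsg.Agent.Blocks.BlockKer
import Cfsg.Agent.Lib.ComponentSolvable

/-!
# BZ-C4 : the double cover of the second Janko group at the prime 3 (helper36)

* `reg_of_rat` : `Reg` from a table of types;
* the faithful character of degree 6 lies in the block of maximal defect.
-/

set_option autoImplicit false

namespace Cfsg.Agent.BZ.C4

open Cfsg Subgroup Cfsg.Agent.BZ.T Cfsg.Agent.TAB.Eng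

/-- the check of `Reg` -/
def regB (D : Dat) (p d : ℕ) : Bool :=
  (List.range D.n).all fun i => D.ord i == 1 || D.ord i % p == 0 ||
    ((D.ord i).totient * D.N) % (D.cnt i * p ^ d) != 0

theorem reg_of_rat {G : Type} [Group G] [Finite G] {D : Dat} {T : TD G D} (hm : T.Mass) (hr : TAB.ON.Rat T) {p d : ℕ}
    (h : regB D p d = true) : Reg p d G := by
  intro y h1 h2 h3
  have h4 := List.all_eq_true.1 h (T.ty y) (List.mem_range.2 (T.lt y))
  simp only [Bool.or_eq_true, beq_iff_eq, bne_iff_ne, ne_eq] at h4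
  rcases h4 with (h4 | h4) | h4
  · exact h2 (orderOf_eq_one_iff.1 ((T.ord y).trans h4))
  · exact h1 (by rw [T.ord y]; exact Nat.dvd_of_mod_eq_zero h4)
  · exact h4 (Nat.mod_eq_zero_of_dvd ((Nat.mul_dvd_mul_left _ h3).trans (KM.Sp.rat_dvd hm hr y)))

/-- the kernel of a non-trivial character of a quasisimple group is central -/
theorem ker_center {K : Type} [Group K] [Finite K] (hK : IsQuasisimple K) {χ : K → ℂ} (hχ : IsIrrCharacter K χ) {v : K}
    (hv : χ v ≠ χ 1) {x : K} (hx : χ x = χ 1) : x ∈ center K := by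
  obtain ⟨N, hN, h⟩ := Blocks.BlockKer.exists_kernel hχ
  rcases Lib.ComponentSolvable.quasisimple_normal_cases hK hN with h1 | h1
  · exact absurd ((h v).1 (h1 ▸ mem_top v)) hv
  · exact h1 ((h x).2 hx)

/-- a rational element of prime order `r` is in the kernel of the characters of degree `< r - 1` -/
theorem rat_ker {K : Type} [Group K] [Finite K] {x : K} {r : ℕ} (hr : r.Prime) (hx : orderOf x = r)
    (hconj : ∀ i : ℕ, ¬ r ∣ i → IsConj x (x ^ i)) {χ : K → ℂ} (hχ : IsIrrCharacter K χ) {n : ℕ} (hn : χ 1 = n)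
    (h : n + 1 < r) : χ x = χ 1 := by
  obtain ⟨d, hdn, hd⟩ := Characters.SchurBound.exists_sum_range (Characters.Core.isIrr_isCharacter hχ) hn x
  obtain ⟨v, hv, -⟩ := H648.Loc.exists_value hr hx hconj hχ
  rw [hx] at hd
  obtain ⟨s, rfl⟩ : ∃ s, r = s + 1 := ⟨r - 1, by omega⟩
  have h1 : ∑ i ∈ Finset.range (s + 1), χ (x ^ i) = χ 1 + s * χ x := by
    rw [Finset.sum_range_succ', pow_zero, add_comm]
    congr 1
    rw [Finset.sum_congr rfl (g := fun _ => χ x)]
    · rw [Finset.sum_const, Finset.card_range, nsmul_eq_mul]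
    · intro i hi
      rw [Finset.mem_range] at hi
      refine (Blocks.Basic.irr_isConj hχ (hconj (i + 1) fun h => ?_)).symm
      have := Nat.le_of_dvd (by omega) h
      omega
  rw [h1, hn, hv] at hd
  have h3 : (n : ℤ) + s * v = (s + 1) * d := by exact_mod_cast hd
  have h4 : (s : ℤ) ∣ (n : ℤ) - d := ⟨d - v, by linear_combination h3⟩
  have h5 : (n : ℤ) - d = 0 := Int.eq_zero_of_dvd_of_nonneg_of_lt (by omega) (by omega) h4
  have h6 : (s : ℤ) * (v - n) = 0 := by linear_combination h3 - (s + 1) * h5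
  have h7 : v = n := by
    rcases mul_eq_zero.1 h6 with h8 | h8 <;> omega
  rw [hv, hn, h7]
  norm_num

theorem j2_card : Nat.card Spor.J2 = 604800 := NotCT.Orders.j2 ⟨MulEquiv.refl _⟩

theorem j2_reg : Reg 3 2 Spor.J2 := by
  obtain ⟨e⟩ := H379.J2Spec.iso
  obtain ⟨T, hm, -, -, hr, -, -⟩ := TAB.J2.tab
  have := TAB.J2.finite
  have : Finite SporadicA.J2Hundred.G := Finite.of_equiv _ e.toEquiv
  exact Reg.of_equiv e (reg_of_rat hm hr (by decide +kernel))

theorem j2_six {K : Type} [Group K] [Finite K] (hK : IsQuasisimple K) (hV : Nat.card (center K) = 2)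
    (e : (K ⧸ center K) ≃* Spor.J2) :
    ∃ χ : IrrCharacter K, (∃ v ∈ center K, (χ : K → ℂ) v ≠ (χ : K → ℂ) 1) ∧ charDegree (χ : K → ℂ) = 6 := by
  obtain ⟨χ, d, h1, ⟨v, hv, h2⟩, h3, h4⟩ := H858.S8.J2Cov.exists_small (center K) hV le_rfl hK.1.commutator_eq_top e
  obtain ⟨y, hy1, hy2, -⟩ := H858.S8.J2Cov.seven_X (X := Spor.J2) ⟨MulEquiv.refl _⟩
  obtain ⟨hπ, hker⟩ := H435.S8.pce_of (MulEquiv.refl Spor.J2) (center K) le_rfl hK.1.commutator_eq_top e
  obtain ⟨x, -, hx1, hx2, -⟩ := H206.S8.lift hπ.surj (r := 2) (p := 7) Nat.prime_two (by norm_num) (by norm_num)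
    (by rw [hker]; exact hV) hker.le hy1 hy2
  have h5 : ¬ d + 1 < 7 := fun h => by
    have h6 := orderOf_dvd_natCard
      (⟨x, ker_center hK h1 h2 (rat_ker (by norm_num) hx1 hx2 h1 h3 h)⟩ : center K)
    rw [Subgroup.orderOf_mk, hx1, hV] at h6
    norm_num at h6
  refine ⟨⟨χ, h1⟩, ⟨v, hv, h2⟩, ?_⟩
  have h7 := Blocks.Basic.irr_one_eq_charDegree h1
  rw [h3] at h7
  have h8 : d = charDegree χ := by exact_mod_cast h7
  show charDegree χ = 6
  omega

/-- **`2.J2`, `p = 3`** -/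
theorem j2_2_3 : ∀ (S : Type) [Group S] [Finite S], Spor.IsoJ2 S → Cov XP 2 3 S := by
  rintro S _ _ ⟨e⟩
  have : Fact (Nat.Prime 3) := ⟨Nat.prime_three⟩
  refine Cov.of_equiv e fun K _ _ σ M B D H hc => ?_
  obtain ⟨f⟩ := quot_iso H
  obtain ⟨χ, ⟨v, hv, h1⟩, h2⟩ := j2_six H.qs hc f
  refine H.not_XP_crit (d := 2) (j2_reg.mono (by norm_num)) j2_reg χ (faith_of_prime Nat.prime_two hc hv h1)
    (by rw [h2]; norm_num) ?_
  rw [h2, j2_card]
  decide +kernel

end Cfsg.Agent.BZ.C4
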