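import Cfsg.Agent.BZ.T.Loc
import Cfsg.Agent.H435.S8.MTwelve
import Cfsg.Agent.H642.PQ.MTwelve

/-!
# BZ-C4 : the double cover of the Mathieu group of degree 12 at the prime 3 (helper36)

The faithful character of degree 12 lies in the block of maximal defect.
-/

set_option autoImplicit false

namespace Cfsg.Agent.BZ.C4

open Cfsg Subgroup Cfsg.Agent.BZ.T

/-- the quotient by the centre -/
theorem quot_iso {p : ℕ} {M : Ideal AlgInt} {K S : Type} [Group K] [Group S] {σ : K →* S} {B : Set (IrrCharacter K)}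
    {D : Subgroup K} (H : Hyp p M B D σ) : Nonempty ((K ⧸ center K) ≃* S) :=
  ⟨(QuotientGroup.quotientMulEquivOfEq H.ker.symm).trans (QuotientGroup.quotientKerEquivOfSurjective σ H.surj)⟩

theorem m12_card : Nat.card Spor.M12 = 95040 := CoThreeStd.MTwelve.card_H

open H642.PQ.MTwelve in
theorem m12_reg : Reg 3 2 Spor.M12 := by
  have : Fact (Nat.Prime 3) := ⟨Nat.prime_three⟩
  have := fin_H
  refine reg_of_prime (S := CoThreeStd.MTwelve.H) fun x hx hx3 => ?_
  rcases prime_cases hx (orderOf_dvd_natCard x) with h | h | h | h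
  · rcases card_cent_inv h with h1 | h1 <;> rw [h1] <;> norm_num
  · exact absurd h hx3
  · have h1 := (H715.Fpr.MathData.cn12_5 (R := Subgroup.zpowers x) (by rw [Nat.card_zpowers]; exact h)).1
    rw [cent_zpowers] at h1
    rw [h1]
    norm_num
  · have h1 := (H715.Fpr.MathData.cn12_11 (R := Subgroup.zpowers x) (by rw [Nat.card_zpowers]; exact h)).1
    rw [cent_zpowers] at h1
    rw [h1]
    norm_num

open H932.Mt H24.M12 H665.RIM in
theorem m12_twelve {K : Type} [Group K] [Finite K] (hV : Nat.card (center K) = 2) (hp : commutator K = ⊤)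
    (hN : Nonempty ((K ⧸ center K) ≃* Spor.M12)) :
    ∃ χ : IrrCharacter K, (∃ v ∈ center K, (χ : K → ℂ) v ≠ (χ : K → ℂ) 1) ∧ charDegree (χ : K → ℂ) = 12 := by
  obtain ⟨χ, h1, h2, h3⟩ := H382.RIM.MTwelve.exists_twelve
  have hs : IsSimpleGroup Spor.M12 := Cfsg.Agent.Schreier.MTwelve.isSimpleGroup
  obtain ⟨ψ, h4, h5, h6⟩ := H435.S8.exists_chi (MulEquiv.refl Spor.M12) S2035.result
    (by rw [Nat.card_congr Multiplicative.toAdd, Nat.card_zmod])
    H109.QO.MTwelve.pce_sig neg_ne_one (fun g => ⟨eq_of_sig, by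
      rintro (rfl | rfl)
      · exact map_one _
      · exact sig_neg⟩) h1 h2 (center K) hV le_rfl hp hN
  refine ⟨⟨ψ, h4⟩, h5, ?_⟩
  have h7 := Blocks.Basic.irr_one_eq_charDegree h4
  rw [h6, Blocks.Basic.irr_one_eq_charDegree h1, h3] at h7
  exact_mod_cast h7.symm

/-- **`2.M12`, `p = 3`** -/
theorem m12_2_3 : ∀ (S : Type) [Group S] [Finite S], Spor.IsoM12 S → Cov XP 2 3 S := by
  rintro S _ _ ⟨e⟩
  have : Fact (Nat.Prime 3) := ⟨Nat.prime_three⟩
  refine Cov.of_equiv e fun K _ _ σ M B D H hc => ?_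
  obtain ⟨χ, ⟨v, hv, h1⟩, h2⟩ := m12_twelve hc H.qs.1.commutator_eq_top (quot_iso H)
  refine H.not_XP_crit (d := 2) (m12_reg.mono (by norm_num)) m12_reg χ (faith_of_prime Nat.prime_two hc hv h1)
    (by rw [h2]; norm_num) ?_
  rw [h2, m12_card]
  decide +kernel

end Cfsg.Agent.BZ.C4
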